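import Groth.Agent.DRingKP.ProjAmp
import Groth.Agent.DRingKP.BC
import Mathlib.Algebra.Category.ModuleCat.ChangeOfRings
import Mathlib.RingTheory.Ideal.Quotient.Operations
import Mathlib.LinearAlgebra.TensorProduct.Quotient

/-!
Lifting acyclic complexes of projective modules along a quotient map.
-/

set_option autoImplicit false
set_option linter.style.haveILetI false
universe u

namespace Groth.Agent.LiftCx

open CategoryTheory CategoryTheory.Limits TensorProduct

variable {R : Type u} [CommRing R] (I : Ideal R)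

/-- reduction modulo `I` -/
noncomputable abbrev red : ModuleCat.{u} R ⥤ ModuleCat.{u} (R ⧸ I) :=
  ModuleCat.extendScalars (Ideal.Quotient.mk I)

instance : (red I).Additive := (ModuleCat.extendRestrictScalarsAdj.{u, u, u} _).left_adjoint_additive

lemma unit_surjective (X : ModuleCat.{u} R) :
    Function.Surjective ((ModuleCat.extendRestrictScalarsAdj (Ideal.Quotient.mk I)).unit.app X).hom :=
  fun z => by
    obtain ⟨x, hx⟩ := TensorProduct.mk_surjective R X (R ⧸ I) Ideal.Quotient.mk_surjective z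
    exact ⟨x, hx⟩

lemma exists_lift {X Y : ModuleCat.{u} R} [hX : Projective X] (g : (red I).obj X ⟶ (red I).obj Y) :
    ∃ f : X ⟶ Y, (red I).map f = g := by
  let adj := ModuleCat.extendRestrictScalarsAdj.{u, u, u} (Ideal.Quotient.mk I)
  haveI : Epi (adj.unit.app Y) := (ModuleCat.epi_iff_surjective _).2 (unit_surjective I Y)
  refine ⟨Projective.factorThru (adj.homEquiv _ _ g) (adj.unit.app Y), (adj.homEquiv _ _).injective ?_⟩
  have h2 := Projective.factorThru_comp (adj.homEquiv _ _ g) (adj.unit.app Y)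
  refine ((adj.homEquiv_unit _ _ _).trans ?_).trans h2
  exact (adj.unit.naturality _).symm

lemma range_sup_eq_top {X Y : ModuleCat.{u} R} (f : X ⟶ Y) (hf : Epi ((red I).map f)) :
    LinearMap.range f.hom ⊔ I • (⊤ : Submodule R Y) = ⊤ := by
  refine Submodule.eq_top_iff'.2 fun y => ?_
  obtain ⟨z, hz⟩ := (ModuleCat.epi_iff_surjective _).1 hf ((1 : R ⧸ I) ⊗ₜ[R] y)
  obtain ⟨x, rfl⟩ := TensorProduct.mk_surjective R X (R ⧸ I) Ideal.Quotient.mk_surjective z
  have h1 : ((1 : R ⧸ I) ⊗ₜ[R] f.hom x) = (1 : R ⧸ I) ⊗ₜ[R] y := hz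
  have h2 := congrArg (TensorProduct.quotTensorEquivQuotSMul Y I) h1
  have e : ∀ w : Y, TensorProduct.quotTensorEquivQuotSMul Y I ((1 : R ⧸ I) ⊗ₜ[R] w) = Submodule.Quotient.mk w :=
    fun w => by
      have := TensorProduct.quotTensorEquivQuotSMul_mk_tmul I (1 : R) w
      simpa using this
  rw [e, e, Submodule.Quotient.eq] at h2
  have : y = f.hom x + -(f.hom x - y) := by abel
  rw [this]
  exact Submodule.add_mem_sup (LinearMap.mem_range_self f.hom x) (Submodule.neg_mem _ h2)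

/-- a class of modules along which complexes can be lifted -/
structure Liftable (Pc : ObjectProperty (ModuleCat.{u} R)) : Prop where
  iso : Pc.IsClosedUnderIsomorphisms
  proj : ∀ X : ModuleCat.{u} R, Pc X → Module.Projective R X
  kernel : ∀ X Y : ModuleCat.{u} R, Pc X → Pc (ModuleCat.of R (X × Y)) → Pc Y
  surj : ∀ (X Y : ModuleCat.{u} R) (f : X ⟶ Y), Pc X → Pc Y →
    LinearMap.range f.hom ⊔ I • (⊤ : Submodule R Y) = ⊤ → Function.Surjective f.hom

variable {I} {Pc : ObjectProperty (ModuleCat.{u} R)} (hPc : Liftable I Pc)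

include hPc

lemma Liftable.projective {X : ModuleCat.{u} R} (hX : Pc X) : Projective X :=
  (IsProjective.iff_projective (R := R) X).1 (hPc.proj X hX)

lemma Liftable.exists_kernel {X Y : ModuleCat.{u} R} (hX : Pc X) (hY : Pc Y) (f : X ⟶ Y) (hf : Epi ((red I).map f)) :
    ∃ (Q : ModuleCat.{u} R) (_ : Pc Q) (S : ShortComplex (ModuleCat.{u} R)) (_ : S.Splitting)
      (e₂ : S.X₂ ≅ X) (e₃ : S.X₃ ≅ Y) (_ : S.X₁ ≅ Q), S.g ≫ e₃.hom = e₂.hom ≫ f := by
  have hs := hPc.surj X Y f hX hY (range_sup_eq_top I f hf)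
  haveI := hPc.proj Y hY
  obtain ⟨s, hs'⟩ := Module.projective_lifting_property f.hom LinearMap.id hs
  let ι : ModuleCat.of R (LinearMap.ker f.hom) ⟶ X :=
    ModuleCat.ofHom (X := LinearMap.ker f.hom) (Y := X) (LinearMap.ker f.hom).subtype
  let S : ShortComplex (ModuleCat.{u} R) := ShortComplex.mk ι f
    (ModuleCat.hom_ext (LinearMap.ext fun (x : LinearMap.ker f.hom) => x.2))
  haveI : Mono S.f := (ModuleCat.mono_iff_injective _).2 Subtype.val_injective
  let σ : S.Splitting := ShortComplex.Splitting.ofExactOfSection S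
    ((ShortComplex.moduleCat_exact_iff_range_eq_ker _).2 (Submodule.range_subtype _))
    (ModuleCat.ofHom s) (ModuleCat.hom_ext hs') inferInstance
  refine ⟨ModuleCat.of R (LinearMap.ker f.hom), hPc.kernel Y _ hY ?_, S, σ, Iso.refl _, Iso.refl _, Iso.refl _, by simp [S]⟩
  haveI := hPc.iso
  refine Pc.prop_of_iso ?_ hX
  exact σ.isoBinaryBiproduct ≪≫ biprod.braiding _ _ ≪≫ ModuleCat.biprodIsoProd _ _

lemma Liftable.isZero_of_red {X : ModuleCat.{u} R} (hX : Pc X) (h : IsZero ((red I).obj X)) : IsZero X := by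
  have h4 : Function.Surjective (0 : X ⟶ X).hom :=
    hPc.surj _ _ 0 hX hX (range_sup_eq_top I _ ⟨fun g g' _ => h.eq_of_src g g'⟩)
  haveI : Subsingleton X := ⟨fun x y => by
    obtain ⟨a, rfl⟩ := h4 x
    obtain ⟨c, rfl⟩ := h4 y
    rfl⟩
  exact ModuleCat.isZero_of_subsingleton _

lemma Liftable.isIso_of_red {X Y : ModuleCat.{u} R} (hX : Pc X) (hY : Pc Y) (f : X ⟶ Y) [IsIso ((red I).map f)] :
    IsIso f := by
  haveI := hPc.iso
  obtain ⟨Q, hQ, S, τ, e₂, e₃, e₁, he⟩ := hPc.exists_kernel hX hY f inferInstance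
  haveI : IsIso ((red I).map S.g) := by
    have : S.g = e₂.hom ≫ f ≫ e₃.inv := by rw [← reassoc_of% he, Iso.hom_inv_id, Category.comp_id]
    rw [this, Functor.map_comp, Functor.map_comp]
    infer_instance
  have h0 : (red I).map S.f = 0 := by
    rw [← cancel_mono ((red I).map S.g), ← Functor.map_comp, S.zero, Functor.map_zero, zero_comp]
  have h1 : IsZero ((red I).obj S.X₁) := by
    refine (IsZero.iff_id_eq_zero _).2 ?_
    rw [← CategoryTheory.Functor.map_id, ← τ.f_r, Functor.map_comp, h0, zero_comp]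
  have h2 : IsZero S.X₁ := hPc.isZero_of_red (Pc.prop_of_iso e₁.symm hQ) h1
  haveI : IsIso S.g := ⟨τ.s, by
    have := τ.id
    rwa [h2.eq_of_tgt τ.r 0, zero_comp, zero_add] at this, τ.s_g⟩
  have : f = e₂.inv ≫ S.g ≫ e₃.hom := by rw [he, Iso.inv_hom_id_assoc]
  rw [this]
  infer_instance

lemma Liftable.exists_iso {X Y : ModuleCat.{u} R} (hX : Pc X) (hY : Pc Y) (e : (red I).obj X ≅ (red I).obj Y) :
    Nonempty (X ≅ Y) := by
  haveI := hPc.projective hX
  obtain ⟨f, hf⟩ := exists_lift I e.hom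
  haveI : IsIso ((red I).map f) := by rw [hf]; infer_instance
  haveI := hPc.isIso_of_red hX hY f
  exact ⟨asIso f⟩

variable (E : DRing.Cx (R ⧸ I)) (h : ∀ i j, E.X i ⟶ E.X j)

/-- cycles -/
noncomputable abbrev Z (i : ℤ) : ModuleCat.{u} (R ⧸ I) := ModuleCat.of _ (LinearMap.ker (E.d i (i + 1)).hom)

omit hPc in
/-- inclusion of cycles -/
noncomputable def zι (i : ℤ) : Z E i ⟶ E.X i :=
  ModuleCat.ofHom (X := LinearMap.ker (E.d i (i + 1)).hom) (Y := E.X i) (LinearMap.ker (E.d i (i + 1)).hom).subtype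

omit hPc in
/-- differential to cycles -/
noncomputable def zp (i : ℤ) : E.X i ⟶ Z E (i + 1) :=
  ModuleCat.ofHom (X := E.X i) (Y := LinearMap.ker (E.d (i + 1) (i + 1 + 1)).hom)
    (LinearMap.codRestrict _ (E.d i (i + 1)).hom fun x => LinearMap.mem_ker.2
      (LinearMap.congr_fun (congrArg ModuleCat.Hom.hom (E.d_comp_d i (i + 1) (i + 1 + 1))) x))

omit hPc in
lemma zp_ι (i : ℤ) : zp E i ≫ zι E (i + 1) = E.d i (i + 1) := rfl

omit hPc in
lemma zι_d (i : ℤ) : zι E i ≫ E.d i (i + 1) = 0 :=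
  ModuleCat.hom_ext (LinearMap.ext fun x => x.2)

omit hPc in
instance (i : ℤ) : Mono (zι E i) := (ModuleCat.mono_iff_injective _).2 Subtype.val_injective

omit hPc in
/-- the cycle sequence -/
noncomputable def zSC (i : ℤ) : ShortComplex (ModuleCat.{u} (R ⧸ I)) :=
  ShortComplex.mk (zι E i) (zp E i) (by
    rw [← cancel_mono (zι E (i + 1)), Category.assoc, zp_ι, zι_d, zero_comp])

omit hPc in
/-- a null homotopy of the identity splits the cycle sequence -/
noncomputable def zSplit (H : Homotopy (𝟙 E) 0) (i : ℤ) : (zSC E i).Splitting := by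
  have hH : ∀ (p q r : ℤ), p + 1 = q → q + 1 = r → 𝟙 (E.X q) = E.d q r ≫ H.hom r q + H.hom q p ≫ E.d p q := by
    intro p q r e₁ e₂
    have := H.comm q
    rw [dNext_eq _ (show (ComplexShape.up ℤ).Rel q r from e₂), prevD_eq _ (show (ComplexShape.up ℤ).Rel p q from e₁)] at this
    simpa using this
  have hp : ∀ j : ℤ, zι E (j + 1) ≫ H.hom (j + 1) j ≫ E.d j (j + 1) = zι E (j + 1) := fun j => by
    have := congrArg (fun t => zι E (j + 1) ≫ t) (hH j (j + 1) (j + 1 + 1) rfl rfl)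
    rw [Category.comp_id, Preadditive.comp_add, ← Category.assoc (zι E (j + 1)) (E.d _ _), zι_d, zero_comp,
      zero_add] at this
    exact this.symm
  haveI : Mono (zSC E i).f := inferInstanceAs (Mono (zι E i))
  refine ShortComplex.Splitting.ofExactOfSection (zSC E i) ?_ (zι E (i + 1) ≫ H.hom (i + 1) i) ?_ inferInstance
  · exact (ShortComplex.moduleCat_exact_iff _).2 fun x hx => ⟨⟨x, congrArg Subtype.val hx⟩, rfl⟩
  · change (zι E (i + 1) ≫ H.hom (i + 1) i) ≫ zp E i = 𝟙 _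
    rw [← cancel_mono (zι E (i + 1)), Category.assoc, Category.assoc, zp_ι, hp, Category.id_comp]

variable {E} in
omit hPc in
/-- retraction onto cycles -/
noncomputable def zR (H : Homotopy (𝟙 E) 0) (i : ℤ) : E.X i ⟶ Z E i := (zSplit E H i).r

variable {E} in
omit hPc in
/-- section of the differential to cycles -/
noncomputable def zS (H : Homotopy (𝟙 E) 0) (i : ℤ) : Z E (i + 1) ⟶ E.X i := (zSplit E H i).s

omit hPc in
lemma zι_R (H : Homotopy (𝟙 E) 0) (i : ℤ) : zι E i ≫ zR H i = 𝟙 _ := (zSplit E H i).f_r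

omit hPc in
lemma zS_p (H : Homotopy (𝟙 E) 0) (i : ℤ) : zS H i ≫ zp E i = 𝟙 _ := (zSplit E H i).s_g

omit hPc in
lemma zS_R (H : Homotopy (𝟙 E) 0) (i : ℤ) : zS H i ≫ zR H i = 0 := (zSplit E H i).s_r

omit hPc in
lemma zι_p (i : ℤ) : zι E i ≫ zp E i = 0 := (zSC E i).zero

omit hPc in
lemma z_id (H : Homotopy (𝟙 E) 0) (i : ℤ) : zR H i ≫ zι E i + zp E i ≫ zS H i = 𝟙 _ := (zSplit E H i).id

theorem exists_lift_cycles (b : ℤ) (hEb : DRing.VanishesAbove E b) (H : Homotopy (𝟙 E) 0)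
    (hEt : ∀ i, ∃ X : ModuleCat.{u} R, Pc X ∧ Nonempty ((red I).obj X ≅ E.X i)) (i : ℤ) :
    ∃ (Q Q' : ModuleCat.{u} R) (_ : Pc Q) (_ : Pc Q') (_ : Pc (ModuleCat.of R (Q × Q'))),
      Nonempty ((red I).obj Q ≅ Z E i) ∧ Nonempty ((red I).obj Q' ≅ Z E (i + 1)) := by
  haveI := hPc.iso
  suffices key : ∀ (k : ℕ) (i : ℤ), b < i + k → ∃ (Q Q' : ModuleCat.{u} R) (_ : Pc Q) (_ : Pc Q')
      (_ : Pc (ModuleCat.of R (Q × Q'))),
      Nonempty ((red I).obj Q ≅ Z E i) ∧ Nonempty ((red I).obj Q' ≅ Z E (i + 1)) from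
    key (b + 1 - i).toNat i (by omega)
  intro k
  induction k with
  | zero =>
    intro i hi
    obtain ⟨X, hX, ⟨e⟩⟩ := hEt i
    have hz : IsZero (E.X i) := hEb i (by omega)
    have hz' : IsZero (Z E i) := by
      haveI := ModuleCat.subsingleton_of_isZero hz
      exact ModuleCat.isZero_of_subsingleton _
    have hz₁ : IsZero (Z E (i + 1)) := by
      haveI := ModuleCat.subsingleton_of_isZero (hEb (i + 1) (by omega))
      exact ModuleCat.isZero_of_subsingleton _
    have h0 : IsZero X := hPc.isZero_of_red hX (hz.of_iso e)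
    refine ⟨X, X, hX, hX, Pc.prop_of_iso ?_ hX, ⟨e ≪≫ hz.iso hz'⟩, ⟨e ≪≫ hz.iso hz₁⟩⟩
    haveI := ModuleCat.subsingleton_of_isZero h0
    exact h0.iso (ModuleCat.isZero_of_subsingleton _)
  | succ k ih =>
    intro i hi
    obtain ⟨Q', -, hQ', -, -, ⟨ρ⟩, -⟩ := ih (i + 1) (by push_cast at hi; omega)
    obtain ⟨X, hX, ⟨e⟩⟩ := hEt i
    haveI := hPc.projective hX
    obtain ⟨f, hf⟩ := exists_lift I (e.hom ≫ zp E i ≫ ρ.inv)
    haveI : Epi (zp E i) := (IsSplitEpi.mk' ⟨zS H i, zS_p E H i⟩).epi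
    obtain ⟨Q, hQ, S, τ, e₂, e₃, e₁, he⟩ := hPc.exists_kernel hX hQ' f (by rw [hf]; infer_instance)
    refine ⟨Q, Q', hQ, hQ', Pc.prop_of_iso (e₂.symm ≪≫ τ.isoBinaryBiproduct ≪≫ biprod.mapIso e₁ e₃ ≪≫
      ModuleCat.biprodIsoProd _ _) hX, ⟨(red I).mapIso e₁.symm ≪≫ ?_⟩, ⟨ρ⟩⟩
    let g : (red I).obj S.X₁ ⟶ E.X i := (red I).map S.f ≫ (red I).map e₂.hom ≫ e.hom
    let g' : Z E i ⟶ (red I).obj S.X₂ := zι E i ≫ e.inv ≫ (red I).map e₂.inv
    have hg : g ≫ zp E i = 0 := by
      have h0 : g ≫ zp E i ≫ ρ.inv = 0 := by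
        simp only [g, Category.assoc, ← hf, ← Functor.map_comp, ← he]
        rw [← Category.assoc S.f, S.zero, zero_comp, Functor.map_zero]
      rw [← cancel_mono ρ.inv, zero_comp, Category.assoc]
      exact h0
    have hg' : g' ≫ (red I).map S.g = 0 := by
      rw [← cancel_mono ((red I).map e₃.hom), zero_comp]
      simp only [g', Category.assoc, ← Functor.map_comp, he, Iso.inv_hom_id_assoc, hf]
      rw [← Category.assoc, zι_p, zero_comp]
    let u : (red I).obj S.X₁ ⟶ Z E i := g ≫ zR H i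
    let v : Z E i ⟶ (red I).obj S.X₁ := g' ≫ (red I).map τ.r
    have hu : u ≫ zι E i = g := by
      have h1 := congrArg (fun t => g ≫ t) (z_id E H i)
      simp only [Preadditive.comp_add, reassoc_of% hg, zero_comp, add_zero, Category.comp_id] at h1
      simpa [u] using h1
    have hv : v ≫ (red I).map S.f = g' := by
      have h1 := congrArg (fun t => g' ≫ (red I).map t) τ.id
      simp only [Functor.map_add, Functor.map_comp, Preadditive.comp_add, reassoc_of% hg', zero_comp, add_zero,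
        CategoryTheory.Functor.map_id, Category.comp_id] at h1
      simpa [v] using h1
    have hm : Mono ((red I).map S.f) :=
      (IsSplitMono.mk' ⟨(red I).map τ.r, by rw [← Functor.map_comp, τ.f_r, CategoryTheory.Functor.map_id]⟩).mono
    refine ⟨u, v, ?_, ?_⟩
    · rw [← cancel_mono ((red I).map S.f), Category.assoc, hv]
      simp only [g', reassoc_of% hu, g, Iso.hom_inv_id_assoc, Category.assoc]
      rw [← Functor.map_comp, ← Functor.map_comp, Iso.hom_inv_id, Category.comp_id, Category.id_comp]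
    · rw [← cancel_mono (zι E i), Category.assoc, hu]
      simp only [g, reassoc_of% hv, g', Category.assoc]
      rw [← Functor.map_comp_assoc, Iso.inv_hom_id, CategoryTheory.Functor.map_id, Category.id_comp,
        Iso.inv_hom_id, Category.comp_id, Category.id_comp]

omit hPc in
/-- differential of the standard split complex -/
noncomputable def splitD (Q : ℤ → ModuleCat.{u} R) (i : ℤ) :
    ModuleCat.of R (Q i × Q (i + 1)) ⟶ ModuleCat.of R (Q (i + 1) × Q (i + 1 + 1)) :=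
  ModuleCat.ofHom ((LinearMap.snd R (Q i) (Q (i + 1))).prod 0)

omit hPc in
/-- the standard split complex -/
noncomputable def splitCx (Q : ℤ → ModuleCat.{u} R) : DRing.Cx R :=
  CochainComplex.of (fun i => ModuleCat.of R (Q i × Q (i + 1))) (splitD Q)
    (fun i => ModuleCat.hom_ext (LinearMap.ext fun z => by simp [splitD]))

omit hPc in
lemma splitCx_d (Q : ℤ → ModuleCat.{u} R) (i : ℤ) : (splitCx Q).d i (i + 1) = splitD Q i := by
  simp [splitCx, CochainComplex.of.d]

omit hPc in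
lemma acyclic_splitCx (Q : ℤ → ModuleCat.{u} R) : (splitCx Q).Acyclic := fun i => by
  rw [(splitCx Q).exactAt_iff' (i - 1) i (i + 1) (by simp) (by simp)]
  obtain ⟨j, rfl⟩ : ∃ j, i = j + 1 := ⟨i - 1, by omega⟩
  refine (ShortComplex.moduleCat_exact_iff _).2 fun (x : Q (j + 1) × Q (j + 1 + 1)) hx => ?_
  have hx' : (x.2, (0 : Q (j + 1 + 1 + 1))) = 0 := by
    rw [show ((splitCx Q).sc' (j + 1 - 1) (j + 1) (j + 1 + 1)).g = splitD Q (j + 1) from splitCx_d Q (j + 1)] at hx
    exact hx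
  have aux : ∀ p, p = j → ∃ y : (splitCx Q).X p, ((splitCx Q).d p (j + 1)).hom y = x := by
    rintro p rfl
    refine ⟨((0 : Q p), x.1), ?_⟩
    rw [splitCx_d]
    exact Prod.ext rfl (congrArg Prod.fst hx').symm
  exact aux (j + 1 - 1) (by omega)

/-- reduction of complexes -/
noncomputable abbrev redCx (I : Ideal R) : DRing.Cx R ⥤ DRing.Cx (R ⧸ I) :=
  (red I).mapHomologicalComplex (ComplexShape.up ℤ)

theorem exists_acyclic_lift
    (b : ℤ) (hEb : DRing.VanishesAbove E b) (hEa : E.Acyclic)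
    (hEt : ∀ i, ∃ X : ModuleCat.{u} R, Pc X ∧ Nonempty ((red I).obj X ≅ E.X i)) :
    ∃ (P : DRing.Cx R) (Q : ℤ → ModuleCat.{u} R), P = splitCx Q ∧ (∀ i, Pc (Q i)) ∧
      DRing.VanishesAbove P (b + 1) ∧ (∀ i, Pc (P.X i)) ∧ Nonempty ((redCx I).obj P ≅ E) := by
  haveI := hPc.iso
  have hEp : ∀ i, Projective (E.X i) := fun i => by
    obtain ⟨X, hX, ⟨e⟩⟩ := hEt i
    haveI := hPc.projective hX
    exact Projective.of_iso e ((ModuleCat.extendRestrictScalarsAdj.{u, u, u} _).map_projective X inferInstance)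
  haveI := DRingKP.isKProjective_of_vanishesAbove hEb hEp
  obtain ⟨H⟩ := CochainComplex.IsKProjective.nonempty_homotopy_zero (𝟙 E) hEa
  choose Q Q' hQ hQ' hQQ hρ hρ' using exists_lift_cycles hPc E b hEb H hEt
  have hprod : ∀ i, Pc (ModuleCat.of R (Q i × Q (i + 1))) := fun i => by
    obtain ⟨e⟩ := hPc.exists_iso (hQ' i) (hQ (i + 1)) ((hρ' i).some ≪≫ ((hρ (i + 1)).some).symm)
    exact Pc.prop_of_iso ((LinearEquiv.refl R (Q i)).prodCongr e.toLinearEquiv).toModuleIso (hQQ i)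
  let ρ := fun i => (hρ i).some
  let Fp : ∀ i, (red I).obj (ModuleCat.of R (Q i × Q (i + 1))) ⟶ E.X i := fun i =>
    (red I).map (ModuleCat.ofHom (LinearMap.fst R (Q i) (Q (i + 1)))) ≫ (ρ i).hom ≫ zι E i +
      (red I).map (ModuleCat.ofHom (LinearMap.snd R (Q i) (Q (i + 1)))) ≫ (ρ (i + 1)).hom ≫ zS H i
  let G : ∀ i, E.X i ⟶ (red I).obj (ModuleCat.of R (Q i × Q (i + 1))) := fun i =>
    zR H i ≫ (ρ i).inv ≫ (red I).map (ModuleCat.ofHom (LinearMap.inl R (Q i) (Q (i + 1)))) +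
      zp E i ≫ (ρ (i + 1)).inv ≫ (red I).map (ModuleCat.ofHom (LinearMap.inr R (Q i) (Q (i + 1))))
  have hiso : ∀ i, Fp i ≫ G i = 𝟙 _ ∧ G i ≫ Fp i = 𝟙 _ := by
    intro i
    let fs := ModuleCat.ofHom (LinearMap.fst R (Q i) (Q (i + 1)))
    let sn := ModuleCat.ofHom (LinearMap.snd R (Q i) (Q (i + 1)))
    let il := ModuleCat.ofHom (LinearMap.inl R (Q i) (Q (i + 1)))
    let ir := ModuleCat.ofHom (LinearMap.inr R (Q i) (Q (i + 1)))
    have e1 : fs ≫ il + sn ≫ ir = 𝟙 _ := ModuleCat.hom_ext (LinearMap.ext fun z => by simp [fs, sn, il, ir])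
    have e2 : il ≫ fs = 𝟙 _ := rfl
    have e3 : ir ≫ sn = 𝟙 _ := rfl
    have e4 : il ≫ sn = 0 := rfl
    have e5 : ir ≫ fs = 0 := rfl
    constructor
    · simp only [Fp, G, Preadditive.add_comp, Preadditive.comp_add, Category.assoc, reassoc_of% (zι_R E H i),
        reassoc_of% (zι_p E i), reassoc_of% (zS_R E H i), reassoc_of% (zS_p E H i), zero_comp, comp_zero, add_zero,
        zero_add, Iso.hom_inv_id_assoc]
      rw [← Functor.map_comp, ← Functor.map_comp, ← Functor.map_add, e1, CategoryTheory.Functor.map_id]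
    · simp only [Fp, G, Preadditive.add_comp, Preadditive.comp_add, Category.assoc]
      simp only [← Functor.map_comp_assoc]
      change ((zR H i ≫ (ρ i).inv ≫ (red I).map (il ≫ fs) ≫ (ρ i).hom ≫ zι E i +
        zp E i ≫ (ρ (i + 1)).inv ≫ (red I).map (ir ≫ fs) ≫ (ρ i).hom ≫ zι E i) +
        (zR H i ≫ (ρ i).inv ≫ (red I).map (il ≫ sn) ≫ (ρ (i + 1)).hom ≫ zS H i +
        zp E i ≫ (ρ (i + 1)).inv ≫ (red I).map (ir ≫ sn) ≫ (ρ (i + 1)).hom ≫ zS H i)) = _
      simp only [e2, e3, e4, e5, Functor.map_zero, CategoryTheory.Functor.map_id, Category.id_comp, zero_comp,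
        comp_zero, add_zero, zero_add, Iso.inv_hom_id_assoc, z_id]
  refine ⟨splitCx Q, Q, rfl, hQ, fun i hi => ?_, hprod, ⟨?_⟩⟩
  · have hz : ∀ j, b < j → IsZero (Q j) := fun j hj => by
      have h1 : IsZero (E.X j) := hEb j hj
      have h2 : IsZero (Z E j) := by
        haveI := ModuleCat.subsingleton_of_isZero h1
        exact ModuleCat.isZero_of_subsingleton _
      have h3 : IsZero ((red I).obj (Q j)) := h2.of_iso (ρ j)
      have h4 : Function.Surjective (0 : Q j ⟶ Q j).hom :=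
        hPc.surj _ _ 0 (hQ j) (hQ j) (range_sup_eq_top I _ ⟨fun g g' _ => h3.eq_of_src g g'⟩)
      haveI : Subsingleton (Q j) := ⟨fun x y => by
        obtain ⟨a, rfl⟩ := h4 x
        obtain ⟨c, rfl⟩ := h4 y
        rfl⟩
      exact ModuleCat.isZero_of_subsingleton _
    haveI := ModuleCat.subsingleton_of_isZero (hz i (by omega))
    haveI := ModuleCat.subsingleton_of_isZero (hz (i + 1) (by omega))
    exact ModuleCat.isZero_of_subsingleton (ModuleCat.of R (Q i × Q (i + 1)))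
  · refine HomologicalComplex.Hom.isoOfComponents (fun i => ⟨Fp i, G i, (hiso i).1, (hiso i).2⟩) fun i j hij => ?_
    obtain rfl : i + 1 = j := hij
    change Fp i ≫ E.d i (i + 1) = (red I).map ((splitCx Q).d i (i + 1)) ≫ Fp (i + 1)
    rw [splitCx_d, ← zp_ι]
    change Fp i ≫ zp E i ≫ zι E (i + 1) = (red I).map (splitD Q i) ≫ Fp (i + 1)
    have e6 : splitD Q i ≫ ModuleCat.ofHom (LinearMap.fst R (Q (i + 1)) (Q (i + 1 + 1))) =
        ModuleCat.ofHom (LinearMap.snd R (Q i) (Q (i + 1))) := rfl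
    have e7 : splitD Q i ≫ ModuleCat.ofHom (LinearMap.snd R (Q (i + 1)) (Q (i + 1 + 1))) = 0 := rfl
    simp only [Fp, Preadditive.add_comp, Preadditive.comp_add, Category.assoc, reassoc_of% (zι_p E i),
      reassoc_of% (zS_p E H i), zero_comp, comp_zero, zero_add]
    rw [← Functor.map_comp_assoc, e6, ← Functor.map_comp_assoc, e7, Functor.map_zero, zero_comp, add_zero]

end Groth.Agent.LiftCx
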