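import Groth.Agent.LiftCx.Main
import Groth.Agent.NilLift.Basic
import Groth.Agent.Hensel.Smooth
import Mathlib.Algebra.Module.StablyFree.Basic
import Mathlib.RingTheory.Nakayama
import Mathlib.RingTheory.Idempotents

/-!
Classes of modules along which lifting works, and lifts of modules.
-/

set_option autoImplicit false
set_option linter.style.haveILetI false
universe u

namespace Groth.Agent.LiftCx

open CategoryTheory CategoryTheory.Limits TensorProduct

variable {R : Type u} [CommRing R] {I : Ideal R}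

lemma surjective_of_le_jacobson (hI : I ≤ Ideal.jacobson ⊥) {X Y : ModuleCat.{u} R} [Module.Finite R Y] (f : X ⟶ Y)
    (h : LinearMap.range f.hom ⊔ I • (⊤ : Submodule R Y) = ⊤) : Function.Surjective f.hom :=
  LinearMap.range_eq_top.1 (top_le_iff.1
    (Submodule.le_of_le_smul_of_le_jacobson_bot Module.Finite.fg_top hI h.ge))

variable (R)

/-- projective modules -/
def projP : ObjectProperty (ModuleCat.{u} R) := fun X => Module.Projective R X

/-- finite projective modules -/
def finProjP : ObjectProperty (ModuleCat.{u} R) := fun X => Module.Finite R X ∧ Module.Projective R X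

/-- finite stably free modules -/
def finSFP : ObjectProperty (ModuleCat.{u} R) := fun X => Module.Finite R X ∧ Module.IsStablyFree R X

instance : (projP R).IsClosedUnderIsomorphisms :=
  ⟨fun e h => haveI : Module.Projective R _ := h; Module.Projective.of_equiv e.toLinearEquiv⟩

instance : (finProjP R).IsClosedUnderIsomorphisms :=
  ⟨fun e h => haveI := h.1; haveI := h.2; ⟨Module.Finite.equiv e.toLinearEquiv, Module.Projective.of_equiv e.toLinearEquiv⟩⟩

instance : (finSFP R).IsClosedUnderIsomorphisms :=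
  ⟨fun e h => haveI := h.1; haveI := h.2; ⟨Module.Finite.equiv e.toLinearEquiv, Module.IsStablyFree.equiv e.toLinearEquiv⟩⟩

variable {R}

lemma projective_snd {X Y : Type u} [AddCommGroup X] [Module R X] [AddCommGroup Y] [Module R Y]
    [Module.Projective R (X × Y)] : Module.Projective R Y :=
  Module.Projective.of_split (LinearMap.inr R X Y) (LinearMap.snd R X Y) (LinearMap.ext fun _ => rfl)

lemma finite_snd {X Y : Type u} [AddCommGroup X] [Module R X] [AddCommGroup Y] [Module R Y]
    [Module.Finite R (X × Y)] : Module.Finite R Y :=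
  Module.Finite.of_surjective (LinearMap.snd R X Y) LinearMap.snd_surjective

lemma liftable_projP (hI : IsNilpotent I) : Liftable I (projP R) where
  iso := inferInstance
  proj _ h := h
  kernel X Y _ h := haveI : Module.Projective R (X × Y) := h; projective_snd (X := X)
  surj _ _ _ _ _ h := LinearMap.range_eq_top.1 (NilLift.eq_top_of_sup_smul hI _ h)

lemma projP_prod (X Y : ModuleCat.{u} R) (hX : projP R X) (hY : projP R Y) : projP R (ModuleCat.of R (X × Y)) :=
  haveI : Module.Projective R X := hX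
  haveI : Module.Projective R Y := hY
  (inferInstance : Module.Projective R (X × Y))

lemma liftable_finProjP (hI : I ≤ Ideal.jacobson ⊥) : Liftable I (finProjP R) where
  iso := inferInstance
  proj _ h := h.2
  kernel X Y _ h :=
    haveI : Module.Finite R (X × Y) := h.1
    haveI : Module.Projective R (X × Y) := h.2
    ⟨finite_snd (X := X), projective_snd (X := X)⟩
  surj _ _ f _ hY h := haveI := hY.1; surjective_of_le_jacobson hI f h

lemma finProjP_prod (X Y : ModuleCat.{u} R) (hX : finProjP R X) (hY : finProjP R Y) :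
    finProjP R (ModuleCat.of R (X × Y)) :=
  haveI := hX.1; haveI := hX.2; haveI := hY.1; haveI := hY.2
  ⟨(inferInstance : Module.Finite R (X × Y)), (inferInstance : Module.Projective R (X × Y))⟩

lemma isStablyFree_snd (X Y : Type u) [AddCommGroup X] [Module R X] [AddCommGroup Y] [Module R Y] [Module.Finite R X]
    [Module.IsStablyFree R X] [Module.IsStablyFree R (X × Y)] : Module.IsStablyFree R Y := by
  obtain ⟨A, _, _, _, _, _⟩ := Module.IsStablyFree.exist_free_prod R X
  obtain ⟨B, _, _, _, _, _⟩ := Module.IsStablyFree.exist_free_prod R (X × Y)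
  have e : (((X × Y) × B) × A) ≃ₗ[R] Y × ((X × A) × B) :=
    { toFun := fun p => (p.1.1.2, ((p.1.1.1, p.2), p.1.2))
      invFun := fun q => (((q.2.1.1, q.1), q.2.2), q.2.1.2)
      map_add' := fun _ _ => rfl
      map_smul' := fun _ _ => rfl
      left_inv := fun _ => rfl
      right_inv := fun _ => rfl }
  haveI : Module.Free R (Y × ((X × A) × B)) := Module.Free.of_equiv e
  exact Module.IsStablyFree.of_free_prod R Y ((X × A) × B)

lemma isStablyFree_prod (X Y : Type u) [AddCommGroup X] [Module R X] [AddCommGroup Y] [Module R Y]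
    [Module.IsStablyFree R X] [Module.IsStablyFree R Y] : Module.IsStablyFree R (X × Y) := by
  obtain ⟨A, _, _, _, _, _⟩ := Module.IsStablyFree.exist_free_prod R X
  obtain ⟨B, _, _, _, _, _⟩ := Module.IsStablyFree.exist_free_prod R Y
  haveI : Module.Free R ((X × Y) × (A × B)) := Module.Free.of_equiv (LinearEquiv.prodProdProdComm R X A Y B)
  exact Module.IsStablyFree.of_free_prod R (X × Y) (A × B)

lemma liftable_finSFP (hI : I ≤ Ideal.jacobson ⊥) : Liftable I (finSFP R) where
  iso := inferInstance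
  proj _ h := haveI := h.2; inferInstance
  kernel X Y hX h :=
    haveI : Module.Finite R (X × Y) := h.1
    haveI : Module.IsStablyFree R (X × Y) := h.2
    haveI := hX.1; haveI := hX.2
    ⟨finite_snd (X := X), isStablyFree_snd X Y⟩
  surj _ _ f _ hY h := haveI := hY.1; surjective_of_le_jacobson hI f h

lemma finSFP_prod (X Y : ModuleCat.{u} R) (hX : finSFP R X) (hY : finSFP R Y) :
    finSFP R (ModuleCat.of R (X × Y)) :=
  haveI := hX.1; haveI := hX.2; haveI := hY.1; haveI := hY.2
  ⟨(inferInstance : Module.Finite R (X × Y)), isStablyFree_prod X Y⟩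

/-- reduction of an idempotent with split image -/
lemma exists_red_iso_of_idem {F : ModuleCat.{u} R} {N : ModuleCat.{u} (R ⧸ I)} (π : (red I).obj F ⟶ N)
    (s : N ⟶ (red I).obj F) (hs : s ≫ π = 𝟙 N) (e : F ⟶ F) (he : e ≫ e = e) (hred : (red I).map e = π ≫ s) :
    Nonempty ((red I).obj (ModuleCat.of R (LinearMap.range e.hom)) ≅ N) := by
  let p : F ⟶ ModuleCat.of R (LinearMap.range e.hom) :=
    ModuleCat.ofHom (X := F) (Y := LinearMap.range e.hom) e.hom.rangeRestrict
  let i : ModuleCat.of R (LinearMap.range e.hom) ⟶ F :=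
    ModuleCat.ofHom (X := LinearMap.range e.hom) (Y := F) (LinearMap.range e.hom).subtype
  have hpi : p ≫ i = e := rfl
  have hip : i ≫ p = 𝟙 _ := ModuleCat.hom_ext (LinearMap.ext fun (⟨x, y, hy⟩ : LinearMap.range e.hom) =>
    Subtype.ext (by
      change e.hom x = x
      rw [← hy]
      exact LinearMap.congr_fun (congrArg ModuleCat.Hom.hom he) y))
  refine ⟨⟨(red I).map i ≫ π, s ≫ (red I).map p, ?_, ?_⟩⟩
  · have h1 : i ≫ e ≫ p = 𝟙 _ := by
      change i ≫ (p ≫ i) ≫ p = 𝟙 _
      rw [Category.assoc, hip, Category.comp_id, hip]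
    rw [Category.assoc, ← reassoc_of% hred, ← Functor.map_comp, ← Functor.map_comp, h1,
      CategoryTheory.Functor.map_id]
  · rw [Category.assoc, ← Functor.map_comp_assoc, hpi, hred, Category.assoc, reassoc_of% hs, hs]

open Classical in
/-- projective modules lift along nilpotent quotients -/
theorem exists_lift_projective (hI : IsNilpotent I) (N : ModuleCat.{u} (R ⧸ I)) [Module.Projective (R ⧸ I) N] :
    ∃ X : ModuleCat.{u} R, projP R X ∧ Nonempty ((red I).obj X ≅ N) := by
  let F : ModuleCat.{u} R := ModuleCat.of R (N →₀ R)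
  let π₀ : (R ⧸ I) ⊗[R] (N →₀ R) →ₗ[R ⧸ I] N := Finsupp.linearCombination (R ⧸ I) id ∘ₗ
    (TensorProduct.finsuppScalarRight R (R ⧸ I) (R ⧸ I) N).toLinearMap
  let π : (red I).obj F ⟶ N := ModuleCat.ofHom (X := (R ⧸ I) ⊗[R] (N →₀ R)) (Y := N) π₀
  have hπ₀ : Function.Surjective π₀ := fun n => ⟨(1 : R ⧸ I) ⊗ₜ[R] Finsupp.single n (1 : R), by
      simp [π₀, LinearMap.comp_apply, TensorProduct.finsuppScalarRight_apply_tmul]⟩
  obtain ⟨s₀, hs₀⟩ := Module.projective_lifting_property π₀ LinearMap.id hπ₀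
  let s : N ⟶ (red I).obj F := ModuleCat.ofHom (X := N) (Y := (R ⧸ I) ⊗[R] (N →₀ R)) s₀
  have hs : s ≫ π = 𝟙 N := ModuleCat.hom_ext hs₀
  let Φ : Module.End R F →+* Module.End (R ⧸ I) ((red I).obj F) :=
    { toFun := fun x => ((red I).map (ModuleCat.ofHom x)).hom
      map_one' := congrArg ModuleCat.Hom.hom ((red I).map_id F)
      map_mul' := fun x y => congrArg ModuleCat.Hom.hom ((red I).map_comp (ModuleCat.ofHom y) (ModuleCat.ofHom x))
      map_zero' := congrArg ModuleCat.Hom.hom ((red I).map_zero F F)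
      map_add' := fun x y =>
        congrArg ModuleCat.Hom.hom ((red I).map_add (f := ModuleCat.ofHom x) (g := ModuleCat.ofHom y)) }
  have hker : ∀ x ∈ RingHom.ker Φ, IsNilpotent x := fun x hx => NilLift.isNilpotent_of_baseChange_eq_zero hI x hx
  haveI : Projective F := (IsProjective.iff_projective (R := R) F).1 (inferInstanceAs (Module.Projective R (N →₀ R)))
  obtain ⟨g, hg⟩ := exists_lift I (π ≫ s)
  have hidem : IsIdempotentElem (π ≫ s).hom :=
    congrArg ModuleCat.Hom.hom (show (π ≫ s) ≫ π ≫ s = π ≫ s by rw [Category.assoc, reassoc_of% hs])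
  obtain ⟨e, he, hee⟩ := exists_isIdempotentElem_eq_of_ker_isNilpotent Φ hker (π ≫ s).hom
    ⟨g.hom, congrArg ModuleCat.Hom.hom hg⟩ hidem
  obtain ⟨iso⟩ := exists_red_iso_of_idem π s hs (ModuleCat.ofHom e) (ModuleCat.hom_ext he) (ModuleCat.hom_ext hee)
  refine ⟨ModuleCat.of R (LinearMap.range e), ?_, ⟨iso⟩⟩
  haveI : Module.Projective R F := inferInstanceAs (Module.Projective R (N →₀ R))
  exact Module.Projective.of_split (LinearMap.range e).subtype e.rangeRestrict
    (LinearMap.ext fun ⟨x, y, hy⟩ => Subtype.ext (by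
      change e x = x
      rw [← hy]
      exact LinearMap.congr_fun he y))

/-- finite projective modules lift along henselian pairs -/
theorem exists_lift_finProj [HenselianRing R I] (N : ModuleCat.{u} (R ⧸ I)) [Module.Finite (R ⧸ I) N]
    [Module.Projective (R ⧸ I) N] : ∃ X : ModuleCat.{u} R, finProjP R X ∧ Nonempty ((red I).obj X ≅ N) := by
  obtain ⟨P, _, _, hf, hp, ⟨e⟩⟩ := Hensel.exists_projective_lift (A := R) (I := I) N
  exact ⟨ModuleCat.of R P, ⟨hf, hp⟩, ⟨e.toModuleIso⟩⟩

/-- finite free modules lift -/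
theorem exists_free_lift (N : ModuleCat.{u} (R ⧸ I)) [Module.Finite (R ⧸ I) N] [Module.Free (R ⧸ I) N] :
    ∃ X : ModuleCat.{u} R, Module.Finite R X ∧ Module.Free R X ∧ Nonempty ((red I).obj X ≅ N) := by
  classical
  let ι := Module.Free.ChooseBasisIndex (R ⧸ I) N
  haveI : Module.Finite R (ι → R) := Module.Finite.pi
  refine ⟨ModuleCat.of R (ι → R), inferInstanceAs (Module.Finite R (ι → R)), inferInstanceAs (Module.Free R (ι → R)), ⟨?_⟩⟩
  exact (TensorProduct.piScalarRight R (R ⧸ I) (R ⧸ I) ι ≪≫ₗ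
    (Module.Free.chooseBasis (R ⧸ I) N).equivFun.symm).toModuleIso

/-- finite stably free modules lift -/
theorem exists_lift_finSF (hI : I ≤ Ideal.jacobson ⊥) (N : ModuleCat.{u} (R ⧸ I)) [Module.Finite (R ⧸ I) N]
    [Module.IsStablyFree (R ⧸ I) N] : ∃ X : ModuleCat.{u} R, finSFP R X ∧ Nonempty ((red I).obj X ≅ N) := by
  obtain ⟨F, _, _, _, _, _⟩ := Module.IsStablyFree.exist_free_prod (R ⧸ I) N
  obtain ⟨X, hXf, hXfree, ⟨eX⟩⟩ := exists_free_lift (I := I) (ModuleCat.of (R ⧸ I) (N × F))
  obtain ⟨Y, hYf, hYfree, ⟨eY⟩⟩ := exists_free_lift (I := I) (ModuleCat.of (R ⧸ I) F)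
  let inN : N ⟶ ModuleCat.of (R ⧸ I) (N × F) := ModuleCat.ofHom (LinearMap.inl (R ⧸ I) N F)
  let prF : ModuleCat.of (R ⧸ I) (N × F) ⟶ ModuleCat.of (R ⧸ I) F := ModuleCat.ofHom (LinearMap.snd (R ⧸ I) N F)
  let κ : N ⟶ (red I).obj X := inN ≫ eX.inv
  let π : (red I).obj X ⟶ ModuleCat.of (R ⧸ I) F := eX.hom ≫ prF
  have h0 : inN ≫ prF = 0 := rfl
  have w : κ ≫ π = 0 := by simp [κ, π, h0]
  let r : (red I).obj X ⟶ N := eX.hom ≫ ModuleCat.ofHom (LinearMap.fst (R ⧸ I) N F)
  let s : ModuleCat.of (R ⧸ I) F ⟶ (red I).obj X := ModuleCat.ofHom (LinearMap.inr (R ⧸ I) N F) ≫ eX.inv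
  have e1 : ModuleCat.ofHom (LinearMap.fst (R ⧸ I) N F) ≫ inN +
      prF ≫ ModuleCat.ofHom (LinearMap.inr (R ⧸ I) N F) = 𝟙 _ :=
    ModuleCat.hom_ext (LinearMap.ext fun z => by simp [inN, prF])
  let σ : (ShortComplex.mk κ π w).Splitting :=
    { r := r
      s := s
      f_r := by simp [κ, r, inN]; rfl
      s_g := by simp [π, s, prF]; rfl
      id := by
        change r ≫ κ + π ≫ s = 𝟙 _
        simp only [r, κ, π, s, Category.assoc, ← Preadditive.comp_add]
        rw [← Category.assoc, ← Category.assoc prF, ← Preadditive.add_comp, e1, Category.id_comp, Iso.hom_inv_id] }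
  exact exists_lift_kernel (liftable_finSFP hI) (Y := Y) ⟨hXf, inferInstance⟩ ⟨hYf, inferInstance⟩ eY π σ.epi_g κ w
    σ.shortExact

/-- a lift of a free module is free -/
theorem free_of_red {Pc : ObjectProperty (ModuleCat.{u} R)} (hPc : Liftable I Pc)
    (hfree : ∀ X : ModuleCat.{u} R, Module.Finite R X → Module.Free R X → Pc X) {X : ModuleCat.{u} R} (hX : Pc X)
    {N : ModuleCat.{u} (R ⧸ I)} [Module.Finite (R ⧸ I) N] (e : (red I).obj X ≅ N) (h : Module.Free (R ⧸ I) N) :
    Module.Free R X := by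
  obtain ⟨Y, hYf, hYfree, ⟨eY⟩⟩ := exists_free_lift (I := I) N
  obtain ⟨f⟩ := hPc.exists_iso (hfree Y hYf hYfree) hX (eY ≪≫ e.symm)
  exact Module.Free.of_equiv f.toLinearEquiv

end Groth.Agent.LiftCx
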