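import Groth.Agent.LiftCx.Split
import Groth.Agent.PerfLocal.Perfect
import Mathlib.Algebra.Homology.HomologySequenceLemmas
import Mathlib.Algebra.Homology.HomologicalComplexAbelian

/-!
Lifting bounded above complexes along a quotient map within a derived isomorphism class.
-/

set_option autoImplicit false
set_option linter.style.haveILetI false
universe u

namespace Groth.Agent.LiftCx

open CategoryTheory CategoryTheory.Limits

attribute [local instance] HasDerivedCategory.standard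

lemma isZero_Q_of_acyclic {A : Type u} [CommRing A] {T : DRing.Cx A} (hT : T.Acyclic) :
    IsZero (DerivedCategory.Q.obj T) := by
  have h : QuasiIso (0 : T ⟶ T) := by
    rw [quasiIso_iff]
    exact fun i => (quasiIsoAt_iff_exactAt _ i (hT i)).2 (hT i)
  haveI : IsIso (DerivedCategory.Q.map (0 : T ⟶ T)) := ((DerivedCategory.isIso_Q_map_iff_quasiIso _ _).2 h)
  rw [IsZero.iff_id_eq_zero, ← IsIso.hom_inv_id (DerivedCategory.Q.map (0 : T ⟶ T))]
  simp only [Functor.map_zero, zero_comp]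

lemma acyclic_red {R : Type u} [CommRing R] (I : Ideal R) {T : DRing.Cx R} {b : ℤ}
    (hb : DRing.VanishesAbove T b) (hT : T.Acyclic) (hp : ∀ i, Projective (T.X i)) :
    ((redCx I).obj T).Acyclic := fun i =>
  (HomologicalComplex.exactAt_iff_isZero_homology _ _).2 (DRingKP.isZero_homology_map (red I) i b hb hp
    (fun j _ => (HomologicalComplex.exactAt_iff_isZero_homology _ _).1 (hT j)) i le_rfl)

variable {R : Type u} [CommRing R] {I : Ideal R} {Pc : ObjectProperty (ModuleCat.{u} R)} (hPc : Liftable I Pc)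

include hPc

/-- kernels of termwise split surjections between reductions have lifts -/
lemma exists_lift_kernel {X : ModuleCat.{u} R} {Y : ModuleCat.{u} R} {N K : ModuleCat.{u} (R ⧸ I)} (hX : Pc X)
    (hY : Pc Y) (e : (red I).obj Y ≅ N) (π : (red I).obj X ⟶ N) (hπ : Epi π) (κ : K ⟶ (red I).obj X) (w : κ ≫ π = 0)
    (hK : (ShortComplex.mk κ π w).ShortExact) :
    ∃ Q : ModuleCat.{u} R, Pc Q ∧ Nonempty ((red I).obj Q ≅ K) := by
  haveI := hPc.projective hX
  obtain ⟨f, hf⟩ := exists_lift I (π ≫ e.inv)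
  obtain ⟨Q, hQ, S, τ, e₂, e₃, e₁, he⟩ := hPc.exists_kernel hX hY f (by rw [hf]; infer_instance)
  have w' : ((red I).map S.f ≫ (red I).map e₂.hom) ≫ π = 0 := by
    rw [← cancel_mono e.inv, zero_comp, Category.assoc, Category.assoc, ← hf, ← Functor.map_comp, ← Functor.map_comp,
      ← he, ← Category.assoc, S.zero, zero_comp, Functor.map_zero]
  let S' := ShortComplex.mk ((red I).map S.f ≫ (red I).map e₂.hom) π w'
  have comm₂ : (red I).map e₂.hom ≫ π = (red I).map S.g ≫ (red I).map e₃.hom ≫ e.hom := by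
    rw [← (red I).map_comp_assoc, he, Functor.map_comp, hf, Category.assoc, Category.assoc, Iso.inv_hom_id,
      Category.comp_id]
  let φ : S.map (red I) ≅ S' := ShortComplex.isoMk (Iso.refl _) ((red I).mapIso e₂)
    ((red I).mapIso e₃ ≪≫ e) (Category.id_comp _) comm₂
  have hS' : S'.ShortExact := ShortComplex.shortExact_of_iso φ (τ.map (red I)).shortExact
  refine ⟨Q, hQ, ⟨(red I).mapIso e₁.symm ≪≫ ?_⟩⟩
  exact IsLimit.conePointUniqueUpToIso hS'.fIsKernel hK.fIsKernel

variable (hprod : ∀ X Y : ModuleCat.{u} R, Pc X → Pc Y → Pc (ModuleCat.of R (X × Y)))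

include hprod

theorem exists_surjective_model {Q : DRing.Cx R} {c : ℤ} (hQc : DRing.VanishesAbove Q c) (hQ : ∀ i, Pc (Q.X i))
    {E : DRing.Cx (R ⧸ I)} {b : ℤ} (hEb : DRing.VanishesAbove E b)
    (hEt : ∀ i, ∃ X : ModuleCat.{u} R, Pc X ∧ Nonempty ((red I).obj X ≅ E.X i))
    (q : (redCx I).obj Q ⟶ E) [QuasiIso q] :
    ∃ (Q' : DRing.Cx R) (c' : ℤ) (q' : (redCx I).obj Q' ⟶ E), DRing.VanishesAbove Q' c' ∧ (∀ i, Pc (Q'.X i)) ∧
      Nonempty (DRing.toD Q' ≅ DRing.toD Q) ∧ QuasiIso q' ∧ ∀ i, Epi (q'.f i) := by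
  haveI := hPc.iso
  choose Xs hXs hx using fun i : ℤ => hEt (i - 1)
  let T := splitCx Xs
  let e : ∀ i, (red I).obj (Xs i) ≅ E.X (i - 1) := fun i => (hx i).some
  let a : ∀ i, (red I).obj (Xs (i + 1)) ⟶ E.X i := fun i => (e (i + 1)).hom ≫ (E.XIsoOfEq (by omega)).hom
  let s : (redCx I).obj T ⟶ E := desc (red I) Xs a
  have hTp : ∀ i, Pc (T.X i) := fun i => hprod _ _ (hXs i) (hXs (i + 1))
  have hTb : DRing.VanishesAbove T (b + 1) := fun i hi => by
    have h : ∀ j, b < j - 1 → Subsingleton (Xs j) := fun j hj =>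
      ModuleCat.subsingleton_of_isZero (hPc.isZero_of_red (hXs j) ((hEb _ hj).of_iso (e j)))
    haveI := h i (by omega)
    haveI := h (i + 1) (by omega)
    exact ModuleCat.isZero_of_subsingleton (ModuleCat.of R (Xs i × Xs (i + 1)))
  have hTa : T.Acyclic := acyclic_splitCx Xs
  have hTz : IsZero (DerivedCategory.Q.obj T) := isZero_Q_of_acyclic hTa
  have hTz' : IsZero (DerivedCategory.Q.obj ((redCx I).obj T)) :=
    isZero_Q_of_acyclic (acyclic_red I hTb hTa fun i => hPc.projective (hTp i))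
  let Q' : DRing.Cx R := Q ⊞ T
  let fs : Q' ⟶ Q := biprod.fst
  let sn : Q' ⟶ T := biprod.snd
  let il : Q ⟶ Q' := biprod.inl
  have htot : fs ≫ il + sn ≫ biprod.inr = 𝟙 _ := biprod.total
  have hfs : IsIso (DerivedCategory.Q.map fs) := by
    refine ⟨DerivedCategory.Q.map il, ?_, ?_⟩
    · rw [← DerivedCategory.Q.map_id, ← htot, Functor.map_add, Functor.map_comp, Functor.map_comp,
        hTz.eq_of_tgt (DerivedCategory.Q.map sn) 0, zero_comp, add_zero]
    · rw [← Functor.map_comp, show il ≫ fs = 𝟙 _ from biprod.inl_fst, DerivedCategory.Q.map_id]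
  have hfs' : IsIso (DerivedCategory.Q.map ((redCx I).map fs)) := by
    refine ⟨DerivedCategory.Q.map ((redCx I).map il), ?_, ?_⟩
    · rw [← DerivedCategory.Q.map_id, ← CategoryTheory.Functor.map_id (redCx I), ← htot, (redCx I).map_add,
        (redCx I).map_comp, (redCx I).map_comp, Functor.map_add, Functor.map_comp, Functor.map_comp,
        hTz'.eq_of_tgt (DerivedCategory.Q.map ((redCx I).map sn)) 0, zero_comp, add_zero]
    · rw [← Functor.map_comp, ← Functor.map_comp, show il ≫ fs = 𝟙 _ from biprod.inl_fst,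
        CategoryTheory.Functor.map_id, DerivedCategory.Q.map_id]
  let q' : (redCx I).obj Q' ⟶ E := (redCx I).map fs ≫ q + (redCx I).map sn ≫ s
  refine ⟨Q', max c (b + 1), q', fun i hi => ?_, fun i => ?_, ⟨@asIso _ _ _ _ _ hfs⟩, ?_, fun i => ?_⟩
  · exact IsZero.of_iso ((biprod_isZero_iff _ _).2 ⟨hQc i (by omega), hTb i (by omega)⟩)
      (HomologicalComplex.biprodXIso Q T i)
  · exact Pc.prop_of_iso ((HomologicalComplex.biprodXIso Q T i ≪≫ ModuleCat.biprodIsoProd _ _).symm)
      (hprod _ _ (hQ i) (hTp i))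
  · rw [← DerivedCategory.isIso_Q_map_iff_quasiIso]
    have : DerivedCategory.Q.map q' = DerivedCategory.Q.map ((redCx I).map fs) ≫ DerivedCategory.Q.map q := by
      rw [Functor.map_add, Functor.map_comp, Functor.map_comp,
        hTz'.eq_of_tgt (DerivedCategory.Q.map ((redCx I).map sn)) 0, zero_comp, add_zero]
    rw [this]
    infer_instance
  · let t : E.X i ⟶ ((redCx I).obj Q').X i :=
      (E.XIsoOfEq (show i + 1 - 1 = i by omega)).inv ≫ (e (i + 1)).inv ≫ (red I).map (pInr Xs i) ≫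
        (red I).map ((biprod.inr : T ⟶ Q').f i)
    refine (IsSplitEpi.mk' ⟨t, ?_⟩).epi
    have h1 : (biprod.inr : T ⟶ Q').f i ≫ fs.f i = 0 := by
      rw [← HomologicalComplex.comp_f, show (biprod.inr : T ⟶ Q') ≫ fs = 0 from biprod.inr_fst]
      rfl
    have h2 : (biprod.inr : T ⟶ Q').f i ≫ sn.f i = 𝟙 _ := by
      rw [← HomologicalComplex.comp_f, show (biprod.inr : T ⟶ Q') ≫ sn = 𝟙 _ from biprod.inr_snd]
      rfl
    have h3 : (red I).map ((biprod.inr : T ⟶ Q').f i) ≫ q'.f i = s.f i := by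
      change (red I).map _ ≫ ((red I).map (fs.f i) ≫ q.f i + (red I).map (sn.f i) ≫ s.f i) = _
      rw [Preadditive.comp_add, ← Functor.map_comp_assoc, h1, Functor.map_zero, zero_comp, zero_add,
        ← Functor.map_comp_assoc, h2, CategoryTheory.Functor.map_id]
      exact Category.id_comp _
    simp only [t, Category.assoc]
    erw [h3]
    rw [show (red I).map (pInr Xs i) ≫ s.f i = a i from inr_desc (red I) Xs a i]
    simp [a]

theorem exists_lift_model (hkl : ∀ X Y : ModuleCat.{u} R, Pc X → Pc (ModuleCat.of R (X × Y)) → Pc Y)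
    {Q : DRing.Cx R} {c : ℤ} (hQc : DRing.VanishesAbove Q c) (hQ : ∀ i, Pc (Q.X i))
    {E : DRing.Cx (R ⧸ I)} {b : ℤ} (hEb : DRing.VanishesAbove E b)
    (hEt : ∀ i, ∃ X : ModuleCat.{u} R, Pc X ∧ Nonempty ((red I).obj X ≅ E.X i))
    (q : (redCx I).obj Q ⟶ E) [QuasiIso q] [∀ i, Epi (q.f i)] :
    ∃ (P : DRing.Cx R) (b' : ℤ), DRing.VanishesAbove P b' ∧ (∀ i, Pc (P.X i)) ∧
      Nonempty (DRing.toD P ≅ DRing.toD Q) ∧ Nonempty ((redCx I).obj P ≅ E) := by
  haveI := hPc.iso
  haveI : Epi q := HomologicalComplex.epi_of_epi_f q inferInstance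
  let SK : ShortComplex (DRing.Cx (R ⧸ I)) := ShortComplex.mk (kernel.ι q) q (kernel.condition q)
  have hSK : SK.ShortExact :=
    { exact := ShortComplex.exact_kernel q }
  have hSKi : ∀ i, (SK.map (HomologicalComplex.eval _ _ i)).ShortExact :=
    (HomologicalComplex.shortExact_iff_degreewise_shortExact SK).1 hSK
  have hMa : (kernel q).Acyclic := hSK.acyclic_X₁ (inferInstanceAs (QuasiIso q))
  have hMb : DRing.VanishesAbove (kernel q) c := fun i hi => by
    haveI : Mono ((kernel.ι q).f i) := (hSKi i).mono_f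
    exact IsZero.of_mono ((kernel.ι q).f i) ((red I).map_isZero (hQc i hi))
  have hMt : ∀ i, ∃ X : ModuleCat.{u} R, Pc X ∧ Nonempty ((red I).obj X ≅ (kernel q).X i) := fun i => by
    obtain ⟨Y, hY, ⟨e⟩⟩ := hEt i
    exact exists_lift_kernel hPc (hQ i) hY e (q.f i) (hSKi i).epi_g ((kernel.ι q).f i) _ (hSKi i)
  obtain ⟨Mt, Qm, rfl, hQm, -, hMtp, ⟨φ⟩⟩ := exists_acyclic_lift hPc (kernel q) c hMb hMa hMt
  let j : (redCx I).obj (splitCx Qm) ⟶ (redCx I).obj Q := φ.hom ≫ kernel.ι q
  have hlift : ∀ i, ∃ a : Qm (i + 1) ⟶ Q.X i, (red I).map a = (red I).map (pInr Qm i) ≫ j.f i := fun i => by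
    haveI := hPc.projective (hQm (i + 1))
    exact exists_lift I ((red I).map (pInr Qm i) ≫ j.f i)
  choose a ha using hlift
  let f : splitCx Qm ⟶ Q := desc (𝟭 _) Qm a
  have hf : (redCx I).map f = j := split_hom_ext (red I) Qm _ _ fun i => by
    change (red I).map (pInr Qm i) ≫ (red I).map (f.f i) = _
    rw [← Functor.map_comp, show pInr Qm i ≫ f.f i = a i from inr_desc (𝟭 _) Qm a i]
    exact ha i
  let S : ShortComplex (DRing.Cx R) := ShortComplex.mk f (cokernel.π f) (cokernel.condition f)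
  let SE : ShortComplex (DRing.Cx (R ⧸ I)) := ShortComplex.mk j q (by simp [j])
  have hSE : SE.ShortExact :=
    ShortComplex.shortExact_of_iso (ShortComplex.isoMk φ (Iso.refl _) (Iso.refl _) (by simp [SE, SK, j])
      (by simp [SE, SK]) : SE ≅ SK).symm hSK
  have hSEi : ∀ i, (SE.map (HomologicalComplex.eval _ _ i)).ShortExact :=
    (HomologicalComplex.shortExact_iff_degreewise_shortExact SE).1 hSE
  have hr : ∀ i, ∃ r : Q.X i ⟶ (splitCx Qm).X i, f.f i ≫ r = 𝟙 _ := fun i => by
    obtain ⟨Y, hY, ⟨e⟩⟩ := hEt i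
    haveI : Projective (E.X i) := by
      haveI := hPc.projective hY
      exact Projective.of_iso e ((ModuleCat.extendRestrictScalarsAdj.{u, u, u} _).map_projective Y inferInstance)
    have hfi : (red I).map (f.f i) = j.f i := congrArg (fun k : (redCx I).obj (splitCx Qm) ⟶ (redCx I).obj Q => k.f i) hf
    haveI := hPc.projective (hQ i)
    let σ : (SE.map (HomologicalComplex.eval _ _ i)).Splitting :=
      haveI : Mono (SE.map (HomologicalComplex.eval _ _ i)).f := (hSEi i).mono_f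
      haveI : Projective (SE.map (HomologicalComplex.eval _ _ i)).X₃ := inferInstanceAs (Projective (E.X i))
      ShortComplex.Splitting.ofExactOfSection _ (hSEi i).exact
        (@Projective.factorThru _ _ _ _ _ ‹Projective (E.X i)› (𝟙 (E.X i)) (q.f i) (hSEi i).epi_g)
        (@Projective.factorThru_comp _ _ _ _ _ ‹Projective (E.X i)› (𝟙 (E.X i)) (q.f i) (hSEi i).epi_g) inferInstance
    obtain ⟨r, hr⟩ := exists_lift I (σ.r : (red I).obj (Q.X i) ⟶ (red I).obj ((splitCx Qm).X i))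
    have h1 : (red I).map (f.f i ≫ r) = 𝟙 _ := by
      rw [Functor.map_comp, hfi, hr]
      exact σ.f_r
    haveI : IsIso ((red I).map (f.f i ≫ r)) := by rw [h1]; infer_instance
    haveI := hPc.isIso_of_red (hMtp i) (hMtp i) (f.f i ≫ r)
    exact ⟨r ≫ inv (f.f i ≫ r), by rw [← Category.assoc, IsIso.hom_inv_id]⟩
  choose r hr using hr
  haveI : ∀ i, Mono (f.f i) := fun i => (IsSplitMono.mk' ⟨r i, hr i⟩).mono
  haveI : Mono f := HomologicalComplex.mono_of_mono_f f inferInstance
  have hS : S.ShortExact :=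
    { exact := ShortComplex.exact_cokernel f }
  have hSi : ∀ i, (S.map (HomologicalComplex.eval _ _ i)).ShortExact :=
    (HomologicalComplex.shortExact_iff_degreewise_shortExact S).1 hS
  let τ : ∀ i, (S.map (HomologicalComplex.eval _ _ i)).Splitting := fun i =>
    ShortComplex.Splitting.ofExactOfRetraction _ (hSi i).exact (r i) (hr i) (hSi i).epi_g
  have hP : ∀ i, Pc ((cokernel f).X i) := fun i =>
    hkl _ _ (hMtp i) (Pc.prop_of_iso ((τ i).isoBinaryBiproduct ≪≫ ModuleCat.biprodIsoProd _ _) (hQ i))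
  haveI : QuasiIso (cokernel.π f) := by
    have hMa' : (splitCx Qm).Acyclic := acyclic_splitCx Qm
    rw [quasiIso_iff]
    intro i
    rw [quasiIsoAt_iff_isIso_homologyMap]
    have z₁ := (HomologicalComplex.exactAt_iff_isZero_homology _ _).1 (hMa' i)
    have z₂ := (HomologicalComplex.exactAt_iff_isZero_homology _ _).1 (hMa' (i + 1))
    haveI : Mono (HomologicalComplex.homologyMap S.g i) := (hS.homology_exact₂ i).mono_g (z₁.eq_of_src _ _)
    haveI : Epi (HomologicalComplex.homologyMap S.g i) :=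
      (hS.homology_exact₃ i (i + 1) rfl).epi_f (z₂.eq_of_tgt _ _)
    exact isIso_of_mono_of_epi (HomologicalComplex.homologyMap S.g i)
  refine ⟨cokernel f, c, fun i hi => ?_, hP, ⟨(asIso (DerivedCategory.Q.map (cokernel.π f))).symm⟩, ⟨?_⟩⟩
  · haveI : Epi ((cokernel.π f).f i) := (hSi i).epi_g
    exact IsZero.of_epi ((cokernel.π f).f i) (hQc i hi)
  · have hred : (S.map (redCx I)).ShortExact :=
      HomologicalComplex.shortExact_of_degreewise_shortExact _ fun i => ((τ i).map (red I)).shortExact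
    let β : S.map (redCx I) ≅ ShortComplex.mk j ((redCx I).map (cokernel.π f))
        (hf ▸ (S.map (redCx I)).zero) :=
      ShortComplex.isoMk (Iso.refl _) (Iso.refl _) (Iso.refl _)
        ((Category.id_comp _).trans (hf.symm.trans (Category.comp_id _).symm))
        ((Category.id_comp _).trans (Category.comp_id _).symm)
    exact IsColimit.coconePointUniqueUpToIso (ShortComplex.shortExact_of_iso β hred).gIsCokernel hSE.gIsCokernel

/-- lifting a complex in a given derived class -/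
theorem exists_lift_complex [DRing.HasLBaseChange (Ideal.Quotient.mk I)]
    (hkl : ∀ X Y : ModuleCat.{u} R, Pc X → Pc (ModuleCat.of R (X × Y)) → Pc Y) (K : Dual.D R)
    {Q : DRing.Cx R} {c : ℤ} (hQc : DRing.VanishesAbove Q c) (hQ : ∀ i, Pc (Q.X i)) (eQ : DRing.toD Q ≅ K)
    {E : DRing.Cx (R ⧸ I)} {b : ℤ} (hEb : DRing.VanishesAbove E b)
    (hEt : ∀ i, ∃ X : ModuleCat.{u} R, Pc X ∧ Nonempty ((red I).obj X ≅ E.X i))
    (eE : DRing.toD E ≅ (DRing.LBaseChange (Ideal.Quotient.mk I)).obj K) :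
    ∃ (P : DRing.Cx R) (b' : ℤ), DRing.VanishesAbove P b' ∧ (∀ i, Pc (P.X i)) ∧
      Nonempty (DRing.toD P ≅ K) ∧ Nonempty ((redCx I).obj P ≅ E) := by
  haveI := DRingKP.isKProjective_of_vanishesAbove hQc (fun i => hPc.projective (hQ i))
  haveI : ((redCx I).obj Q).IsKProjective :=
    DRingKP.isKProjective_of_vanishesAbove (fun i hi => (red I).map_isZero (hQc i hi)) fun i =>
      (ModuleCat.extendRestrictScalarsAdj.{u, u, u} _).map_projective (Q.X i) (hPc.projective (hQ i))
  let α : DRing.toD ((redCx I).obj Q) ≅ DRing.toD E :=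
    (DRingKP.lBaseChangeIso (Ideal.Quotient.mk I) Q).symm ≪≫ (DRing.LBaseChange _).mapIso eQ ≪≫ eE.symm
  obtain ⟨q, hq⟩ := PerfLocal.exists_lift α.hom
  haveI : IsIso (DerivedCategory.Q.map q) := by rw [hq]; infer_instance
  haveI : QuasiIso q := (DerivedCategory.isIso_Q_map_iff_quasiIso _ q).1 inferInstance
  obtain ⟨Q', c', q', hQ'c, hQ', ⟨e'⟩, hq', hq''⟩ := exists_surjective_model hPc hprod hQc hQ hEb hEt q
  obtain ⟨P, b', hP, hPp, ⟨eP⟩, hiso⟩ := exists_lift_model hPc hprod hkl hQ'c hQ' hEb hEt q'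
  exact ⟨P, b', hP, hPp, ⟨eP ≪≫ e' ≪≫ eQ⟩, hiso⟩

end Groth.Agent.LiftCx
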