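import Groth.Agent.LiftCx.Acyclic

/-!
Maps out of standard split complexes.
-/

set_option autoImplicit false
universe u v w

namespace Groth.Agent.LiftCx

open CategoryTheory CategoryTheory.Limits

variable {R : Type u} [CommRing R] {C : Type v} [Category.{w} C] [Preadditive C]
  (T : ModuleCat.{u} R ⥤ C) [T.Additive] (Q : ℤ → ModuleCat.{u} R)

/-- first projection -/
noncomputable abbrev pFst (i : ℤ) : ModuleCat.of R (Q i × Q (i + 1)) ⟶ Q i :=
  ModuleCat.ofHom (LinearMap.fst R (Q i) (Q (i + 1)))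

/-- second projection -/
noncomputable abbrev pSnd (i : ℤ) : ModuleCat.of R (Q i × Q (i + 1)) ⟶ Q (i + 1) :=
  ModuleCat.ofHom (LinearMap.snd R (Q i) (Q (i + 1)))

/-- first inclusion -/
noncomputable abbrev pInl (i : ℤ) : Q i ⟶ ModuleCat.of R (Q i × Q (i + 1)) :=
  ModuleCat.ofHom (LinearMap.inl R (Q i) (Q (i + 1)))

/-- second inclusion -/
noncomputable abbrev pInr (i : ℤ) : Q (i + 1) ⟶ ModuleCat.of R (Q i × Q (i + 1)) :=
  ModuleCat.ofHom (LinearMap.inr R (Q i) (Q (i + 1)))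

lemma pInr_d (i : ℤ) : pInr Q i ≫ splitD Q i = pInl Q (i + 1) := rfl

variable {G : CochainComplex C ℤ} (a : ∀ i, T.obj (Q (i + 1)) ⟶ G.X i)

/-- the component on the first factor -/
noncomputable def descFst (i : ℤ) : T.obj (Q i) ⟶ G.X i :=
  T.map (eqToHom (congrArg Q (show i = i - 1 + 1 by omega))) ≫ a (i - 1) ≫ G.d (i - 1) i

lemma descFst_succ (i : ℤ) : descFst T Q a (i + 1) = a i ≫ G.d i (i + 1) := by
  have key : ∀ (j : ℤ) (h : i + 1 = j + 1), T.map (eqToHom (congrArg Q h)) ≫ a j ≫ G.d j (i + 1) =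
      a i ≫ G.d i (i + 1) := by
    intro j h
    obtain rfl : i = j := by omega
    simp
  exact key (i + 1 - 1) (by omega)

lemma descFst_d (i : ℤ) : descFst T Q a i ≫ G.d i (i + 1) = 0 := by
  rw [descFst, Category.assoc, Category.assoc, G.d_comp_d, comp_zero, comp_zero]

/-- the map out of a split complex determined by the second components -/
noncomputable def desc : (T.mapHomologicalComplex (ComplexShape.up ℤ)).obj (splitCx Q) ⟶ G where
  f i := T.map (pFst Q i) ≫ descFst T Q a i + T.map (pSnd Q i) ≫ a i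
  comm' i j hij := by
    obtain rfl : i + 1 = j := hij
    change (T.map (pFst Q i) ≫ descFst T Q a i + T.map (pSnd Q i) ≫ a i) ≫ G.d i (i + 1) =
      T.map ((splitCx Q).d i (i + 1)) ≫
        (T.map (pFst Q (i + 1)) ≫ descFst T Q a (i + 1) + T.map (pSnd Q (i + 1)) ≫ a (i + 1))
    rw [splitCx_d]
    change (T.map (pFst Q i) ≫ descFst T Q a i + T.map (pSnd Q i) ≫ a i) ≫ G.d i (i + 1) =
      T.map (splitD Q i) ≫
        (T.map (pFst Q (i + 1)) ≫ descFst T Q a (i + 1) + T.map (pSnd Q (i + 1)) ≫ a (i + 1))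
    have e6 : splitD Q i ≫ pFst Q (i + 1) = pSnd Q i := rfl
    have e7 : splitD Q i ≫ pSnd Q (i + 1) = 0 := rfl
    rw [Preadditive.comp_add, Preadditive.add_comp, Category.assoc, Category.assoc, descFst_d, comp_zero, zero_add,
      ← T.map_comp_assoc, e6, ← T.map_comp_assoc, e7, T.map_zero, zero_comp, add_zero, descFst_succ]

lemma inr_desc (i : ℤ) : T.map (pInr Q i) ≫ (desc T Q a).f i = a i := by
  change T.map (pInr Q i) ≫ (T.map (pFst Q i) ≫ descFst T Q a i + T.map (pSnd Q i) ≫ a i) = a i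
  have e1 : pInr Q i ≫ pFst Q i = 0 := rfl
  have e2 : pInr Q i ≫ pSnd Q i = 𝟙 _ := rfl
  rw [Preadditive.comp_add, ← T.map_comp_assoc, e1, T.map_zero, zero_comp, zero_add, ← T.map_comp_assoc, e2,
    T.map_id, Category.id_comp]

/-- maps out of a split complex agree once they agree on the second factors -/
lemma split_hom_ext (f g : (T.mapHomologicalComplex (ComplexShape.up ℤ)).obj (splitCx Q) ⟶ G)
    (h : ∀ i, T.map (pInr Q i) ≫ f.f i = T.map (pInr Q i) ≫ g.f i) : f = g := by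
  ext i
  obtain ⟨j, rfl⟩ : ∃ j, i = j + 1 := ⟨i - 1, by omega⟩
  have e1 : pFst Q (j + 1) ≫ pInl Q (j + 1) + pSnd Q (j + 1) ≫ pInr Q (j + 1) = 𝟙 _ :=
    ModuleCat.hom_ext (LinearMap.ext fun z => by simp)
  have hl : ∀ k : (T.mapHomologicalComplex (ComplexShape.up ℤ)).obj (splitCx Q) ⟶ G,
      T.map (pInl Q (j + 1)) ≫ k.f (j + 1) = (T.map (pInr Q j) ≫ k.f j) ≫ G.d j (j + 1) := fun k => by
    have h1 : k.f j ≫ G.d j (j + 1) = T.map (splitD Q j) ≫ k.f (j + 1) := by
      rw [← splitCx_d]; exact k.comm j (j + 1)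
    refine Eq.symm ((Category.assoc _ _ _).trans ((congrArg (T.map (pInr Q j) ≫ ·) h1).trans ?_))
    refine (Category.assoc _ _ _).symm.trans ?_
    refine congrArg (· ≫ k.f (j + 1)) ?_
    exact (T.map_comp _ _).symm.trans (congrArg T.map (pInr_d Q j))
  have hk : ∀ k : (T.mapHomologicalComplex (ComplexShape.up ℤ)).obj (splitCx Q) ⟶ G,
      k.f (j + 1) = T.map (pFst Q (j + 1)) ≫ T.map (pInl Q (j + 1)) ≫ k.f (j + 1) +
        T.map (pSnd Q (j + 1)) ≫ T.map (pInr Q (j + 1)) ≫ k.f (j + 1) := fun k => by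
    rw [← Category.assoc, ← Category.assoc, ← T.map_comp, ← T.map_comp, ← Preadditive.add_comp, ← T.map_add, e1,
      T.map_id]
    exact (Category.id_comp _).symm
  exact (hk f).trans ((congrArg₂ (· + ·) (congrArg (_ ≫ ·) ((hl f).trans ((congrArg (· ≫ G.d j (j + 1)) (h j)).trans
    (hl g).symm))) (congrArg (_ ≫ ·) (h (j + 1)))).trans (hk g).symm)

end Groth.Agent.LiftCx
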